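import Groth.Agent.Lib.Helper73.GrpHomDim.FieldCase
import Groth.Agent.Lib.Helper72.ArtinRed
import Groth.Agent.S3024

/-!
# Image and dimension formula for a homomorphism of group schemes over a local artinian ring
(helper73)
-/

set_option autoImplicit false
universe u
open CategoryTheory MonoidalCategory CartesianMonoidalCategory MonObj GrpObj AlgebraicGeometry Limits

namespace Groth.Agent.Lib.Helper73

open Groth.Agent.Lib.Helper72.ArtinRed

section

variable {A : Type u} [CommRing A] [IsArtinianRing A] [IsLocalRing A]
  {G H : Over (Spec (CommRingCat.of A))} (u : G ⟶ H)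

/-- The base change of `u` to the residue field. -/
noncomputable abbrev bcHom : Red.bc (clPt A) G ⟶ Red.bc (clPt A) H := (Over.pullback (clPt A)).map u

lemma bcHom_left_proj : (bcHom u).left ≫ proj H = proj G ≫ u.left := by
  simp [bcHom, proj, Over.pullback]
  exact pullback.lift_fst _ _ _

lemma bcHom_left_snd :
    (bcHom u).left ≫ pullback.snd H.hom (clPt A) = pullback.snd G.hom (clPt A) := by
  simp [bcHom, Over.pullback]
  exact pullback.lift_snd _ _ _

/-- The base change square of `u`. -/
theorem isPullback_bcHom : IsPullback (proj G) (bcHom u).left u.left (proj H) := by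
  have big : IsPullback (pullback.fst G.hom (clPt A)) (pullback.snd G.hom (clPt A)) G.hom
      (clPt A) := IsPullback.of_hasPullback _ _
  have right : IsPullback (pullback.fst H.hom (clPt A)) (pullback.snd H.hom (clPt A)) H.hom
      (clPt A) := IsPullback.of_hasPullback _ _
  have s : IsPullback ((bcHom u).left ≫ pullback.snd H.hom (clPt A)) (proj G) (clPt A)
      (u.left ≫ H.hom) := by
    rw [bcHom_left_snd, Over.w u]
    exact big.flip
  exact (IsPullback.of_right s (bcHom_left_proj u) right.flip).flip

end

section Main

variable (A : Type u) [CommRing A] [IsArtinianRing A] [IsLocalRing A]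
  (G H : Over (Spec (CommRingCat.of A))) [GrpObj G] [GrpObj H] [LocallyOfFiniteType G.hom]
  [LocallyOfFiniteType H.hom] (u : G ⟶ H) [IsMonHom u] [QuasiCompact u.left]

theorem isClosed_range_and_dim_eq :
    IsClosed (Set.range u.left) ∧
    topologicalKrullDim G.left =
      topologicalKrullDim (Set.range u.left) +
        topologicalKrullDim ↥(Limits.pullback u.left
          (η[H] : 𝟙_ (Over (Spec (CommRingCat.of A))) ⟶ H).left) := by
  set uk := bcHom u with huk
  have hsq := isPullback_bcHom u
  haveI : QuasiCompact uk.left := MorphismProperty.of_isPullback hsq ‹_›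
  haveI : IsMonHom uk := inferInstance
  -- closedness over the residue field
  obtain ⟨H', _, i, f', hi, hf', hcomp, hcl, -, -, hsurj⟩ :=
    Groth.Agent.S3024.result (IsLocalRing.ResidueField A) (Red.bc (clPt A) G) (Red.bc (clPt A) H) uk
  have hrk : Set.range uk.left = Set.range i.left := by
    rw [← hcomp, Over.comp_left]
    ext y
    constructor
    · rintro ⟨x, rfl⟩; exact ⟨f'.left x, rfl⟩
    · rintro ⟨z, rfl⟩
      obtain ⟨x, rfl⟩ := f'.left.surjective z
      exact ⟨x, rfl⟩
  have hclk : IsClosed (Set.range uk.left) := by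
    rw [hrk]; exact i.left.isClosedEmbedding.isClosed_range
  -- transport along the homeomorphisms
  have hcomm : ∀ x, proj H (uk.left x) = u.left (proj G x) := by
    intro x
    have := congrArg (fun φ => φ x) (bcHom_left_proj u)
    simpa only [Scheme.Hom.comp_apply] using this
  have hrange : Set.range u.left = proj H '' Set.range uk.left := by
    ext y
    constructor
    · rintro ⟨x, rfl⟩
      obtain ⟨x', rfl⟩ := (proj G).surjective x
      exact ⟨uk.left x', ⟨x', rfl⟩, hcomm x'⟩
    · rintro ⟨_, ⟨x', rfl⟩, rfl⟩
      exact ⟨proj G x', (hcomm x').symm⟩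
  have hclA : IsClosed (Set.range u.left) := by
    rw [hrange]
    exact (isHomeomorph_proj H).isClosedMap _ hclk
  refine ⟨hclA, ?_⟩
  -- fibre dimensions
  haveI hlftu : LocallyOfFiniteType u.left := by
    have : LocallyOfFiniteType (u.left ≫ H.hom) := by rw [Over.w u]; infer_instance
    exact locallyOfFiniteType_of_comp u.left H.hom
  haveI hlftuk : LocallyOfFiniteType uk.left := locallyOfFiniteType_hom_left uk
  haveI : Subsingleton ↥(Spec (CommRingCat.of A)) := subsingleton_spec A
  haveI : Subsingleton ↥(𝟙_ (Over (Spec (CommRingCat.of A)))).left := subsingleton_spec A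
  let pt : ↥(𝟙_ (Over (Spec (CommRingCat.of A)))).left := IsLocalRing.closedPoint A
  obtain ⟨n, hn1⟩ := exists_fibreDimAt_eq_natCast u.left (η[G].left pt)
  have hn : ∀ x : G.left, FlatMor.fibreDimAt u.left x = ((n : ℕ) : WithBot ℕ∞) :=
    fun x => (fibreDimAt_hom_const u x _).trans hn1
  have hnk : ∀ x : (Red.bc (clPt A) G).left,
      FlatMor.fibreDimAt uk.left x = ((n : ℕ) : WithBot ℕ∞) := by
    intro x
    rw [fibreDimAt_eq_of_isPullback u.left (proj H) (proj G) uk.left hsq x]
    exact hn _
  -- the dimension formula over the residue field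
  have hdimk := dim_eq_dim_range_add uk n hnk hclk
  -- the kernel
  have hker : topologicalKrullDim ↥(Limits.pullback u.left
      (η[H] : 𝟙_ (Over (Spec (CommRingCat.of A))) ⟶ H).left) = ((n : ℕ) : WithBot ℕ∞) := by
    have hsec : (η[H] : 𝟙_ (Over (Spec (CommRingCat.of A))) ⟶ H).left ≫ H.hom = 𝟙 _ :=
      Over.w η[H]
    rw [dim_pullback_section_eq u.left _ H.hom hsec]
    have hr : Set.range (η[H] : 𝟙_ (Over (Spec (CommRingCat.of A))) ⟶ H).left =
        {η[H].left pt} := by
      ext y
      constructor
      · rintro ⟨p, rfl⟩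
        rw [Set.mem_singleton_iff, Subsingleton.elim p pt]
      · rintro rfl
        exact ⟨pt, rfl⟩
    rw [hr]
    apply dim_fibre_hom_eq u n hn
    refine ⟨η[G].left pt, ?_⟩
    rw [← Scheme.Hom.comp_apply, ← Over.comp_left, IsMonHom.one_hom]
  rw [hker]
  -- transport the dimensions
  have h1 : topologicalKrullDim ↥(Red.bc (clPt A) G).left = topologicalKrullDim ↥G.left :=
    (isHomeomorph_proj G).topologicalKrullDim_eq
  have h2 : topologicalKrullDim ↥(Set.range uk.left) = topologicalKrullDim ↥(Set.range u.left) := by
    rw [hrange]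
    exact ((homeo H).image (Set.range uk.left)).isHomeomorph.topologicalKrullDim_eq
  rw [← h1, ← h2]
  exact hdimk

end Main

end Groth.Agent.Lib.Helper73
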