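import Groth.Agent.Lib.Helper73.GrpHomDim.Homog
import Groth.Agent.Lib.Helper72.FibDim
import Groth.Agent.Lib.Helper73.DimFormula.GenericLocus
import Groth.Agent.Lib.Helper73.DimFormula.IrrEq
import Groth.Agent.Lib.Helper73.DimFormula.FiberDimAdd

/-!
# Dimension formula for a homomorphism of group schemes over a field (helper73)

For a homomorphism `f : G ⟶ H` of group schemes locally of finite type over a field:

* `fibreDimAt_hom_const`: the fibre dimension of `f` is constant.
* `dim_fibre_hom_eq`: every nonempty fibre has that dimension.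
* `dim_eq_dim_range_add`: if the image is closed, `dim G = dim f(G) + n`.
* `isPreimmersion_of_section`, `dim_pullback_section_eq`: the kernel (pullback along the unit
  section) has dimension `n`.
-/

set_option autoImplicit false
universe u
open CategoryTheory MonoidalCategory CartesianMonoidalCategory MonObj GrpObj AlgebraicGeometry Limits

namespace Groth.Agent.Lib.Helper73

/-- A section of a morphism of schemes is a preimmersion. -/
theorem isPreimmersion_of_section {X S : Scheme.{u}} (σ : S ⟶ X) (p : X ⟶ S) (h : σ ≫ p = 𝟙 S) :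
    IsPreimmersion σ := by
  have hemb : Topology.IsEmbedding σ := by
    have hli : Function.LeftInverse p σ := by
      intro s
      rw [← Scheme.Hom.comp_apply, h]; rfl
    exact hli.isEmbedding p.continuous σ.continuous
  refine { stalkMap_surjective := ?_, isEmbedding := hemb }
  intro s
  have h1 : IsIso ((σ ≫ p).stalkMap s) := by rw [h]; infer_instance
  rw [Scheme.Hom.stalkMap_comp] at h1
  have h2 := ((ConcreteCategory.isIso_iff_bijective _).mp h1).2
  intro b
  obtain ⟨a, ha⟩ := h2 b
  exact ⟨p.stalkMap (σ s) a, ha⟩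

/-- The pullback of `f` along a section `σ` of the structure morphism of the target is
homeomorphic to the preimage of the image of `σ`; in particular it has the same dimension. -/
theorem dim_pullback_section_eq {X Y S : Scheme.{u}} (f : X ⟶ Y) (σ : S ⟶ Y) (p : Y ⟶ S)
    (h : σ ≫ p = 𝟙 S) :
    topologicalKrullDim ↥(pullback f σ) = topologicalKrullDim ↥(f ⁻¹' Set.range σ) := by
  haveI := isPreimmersion_of_section σ p h
  have hemb : Topology.IsEmbedding (pullback.fst f σ) := (pullback.fst f σ).isEmbedding
  have hr : Set.range (pullback.fst f σ) = f ⁻¹' Set.range σ := Scheme.Pullback.range_fst f σ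
  rw [← hr]
  exact (hemb.toHomeomorph).isHomeomorph.topologicalKrullDim_eq

section OnePoint

variable {S : Scheme.{u}} [Subsingleton S] {G H : Over S} [GrpObj G] [GrpObj H]
  (f : G ⟶ H) [IsMonHom f] [LocallyOfFiniteType f.left]

/-- The fibre dimension of a homomorphism of group schemes over a one-point base is constant. -/
theorem fibreDimAt_hom_const (x y : G.left) :
    FlatMor.fibreDimAt f.left x = FlatMor.fibreDimAt f.left y := by
  haveI : Subsingleton ↥(𝟙_ (Over S)).left := inferInstanceAs (Subsingleton S)
  rw [fibreDimAt_hom_eq_unit f x, fibreDimAt_hom_eq_unit f y,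
    Subsingleton.elim ((toUnit G).left x) ((toUnit G).left y)]

variable (n : ℕ) (hn : ∀ x : G.left, FlatMor.fibreDimAt f.left x = ((n : ℕ) : WithBot ℕ∞))

include hn in
/-- Every nonempty fibre of a homomorphism of group schemes has the common dimension. -/
theorem dim_fibre_hom_eq (y : H.left) (hy : y ∈ Set.range f.left) :
    topologicalKrullDim ↥(f.left ⁻¹' {y}) = ((n : ℕ) : WithBot ℕ∞) := by
  rw [Groth.Agent.Lib.Helper72.FibDim.dim_fibre_eq_iSup f.left y]
  apply le_antisymm
  · refine iSup_le fun t => ?_
    have h1 := resTrdegNat_le_fibreDimAt f.left t.1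
    rw [hn t.1] at h1
    exact h1
  · obtain ⟨x₀, hx₀⟩ := hy
    obtain ⟨z, -, hfz, -, hz⟩ := exists_maximal_fiber_resTrdegNat_eq_fibreDimAt f.left x₀
    rw [hn x₀] at hz
    have hzy : z ∈ f.left ⁻¹' {y} := hfz.trans hx₀
    have := le_iSup (fun t : ↥(f.left ⁻¹' {y}) =>
      ((resTrdegNat f.left t.1 : ℕ∞) : WithBot ℕ∞)) ⟨z, hzy⟩
    refine le_trans (le_of_eq ?_) this
    rw [hz]
    rfl

end OnePoint

section Field

variable {k : Type u} [Field k] {G H : Over (Spec (CommRingCat.of k))} [GrpObj G] [GrpObj H]
  [LocallyOfFiniteType G.hom] [LocallyOfFiniteType H.hom] (f : G ⟶ H) [IsMonHom f]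

omit [GrpObj G] [GrpObj H] [IsMonHom f] in
lemma locallyOfFiniteType_hom_left : LocallyOfFiniteType f.left := by
  have : LocallyOfFiniteType (f.left ≫ H.hom) := by rw [Over.w f]; infer_instance
  exact locallyOfFiniteType_of_comp f.left H.hom

variable (n : ℕ)
  (hn : haveI := locallyOfFiniteType_hom_left f
    ∀ x : G.left, FlatMor.fibreDimAt f.left x = ((n : ℕ) : WithBot ℕ∞))

include hn in
/-- `dim G = dim f(G) + n` when the image is closed. -/
theorem dim_eq_dim_range_add (hcl : IsClosed (Set.range f.left)) :
    topologicalKrullDim ↥G.left =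
      topologicalKrullDim ↥(Set.range f.left) + ((n : ℕ) : WithBot ℕ∞) := by
  haveI := locallyOfFiniteType_hom_left f
  have hδG := isDimFun_trdegNat G.hom
  have hδH := isDimFun_trdegNat H.hom
  rw [hδG.topologicalKrullDim_eq_iSup, hδH.topologicalKrullDim_closed_eq_iSup hcl]
  have hadd : ∀ x : G.left, trdegNat G.hom x = trdegNat H.hom (f.left x) + resTrdegNat f.left x :=
    fun x => trdegNat_eq_add G.hom H.hom f.left (Over.w f) x
  apply le_antisymm
  · refine iSup_le fun x => ?_
    rw [hadd x]
    have h1 := resTrdegNat_le_fibreDimAt f.left x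
    rw [hn x] at h1
    have h2 := le_iSup (fun t : ↥(Set.range f.left) =>
      ((trdegNat H.hom t.1 : ℕ∞) : WithBot ℕ∞)) ⟨f.left x, x, rfl⟩
    calc (((trdegNat H.hom (f.left x) + resTrdegNat f.left x : ℕ) : ℕ∞) : WithBot ℕ∞)
        = ((trdegNat H.hom (f.left x) : ℕ∞) : WithBot ℕ∞) +
            ((resTrdegNat f.left x : ℕ) : WithBot ℕ∞) := by push_cast; rfl
      _ ≤ _ := add_le_add h2 h1
  · apply iSup_add_le_withBot
    rintro ⟨_, x₀, rfl⟩
    obtain ⟨z, -, hfz, -, hz⟩ := exists_maximal_fiber_resTrdegNat_eq_fibreDimAt f.left x₀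
    rw [hn x₀] at hz
    have hz' : resTrdegNat f.left z = n := by exact_mod_cast hz.symm
    have := le_iSup (fun x : G.left => ((trdegNat G.hom x : ℕ∞) : WithBot ℕ∞)) z
    refine le_trans (le_of_eq ?_) this
    rw [hadd z, hfz, hz']
    push_cast
    rfl

end Field

end Groth.Agent.Lib.Helper73
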