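import Groth.Agent.Lib.Helper72.EquivImm
import Groth.Agent.Lib.Helper72.TransT
import Groth.Agent.Lib.Helper73.DimFormula.FieldExtScheme

/-!
# Homogeneity of the fibre dimension of a homomorphism of group schemes (helper73)

* `fibreDimAt_hom_eq_unit`: for a homomorphism `f : G ⟶ H` of group schemes over `S`, locally of
  finite type, the fibre dimension of `f` at `x` equals the fibre dimension at the unit point
  of the fibre of `G` through `x`.
-/

set_option autoImplicit false
universe u
open CategoryTheory MonoidalCategory CartesianMonoidalCategory MonObj GrpObj AlgebraicGeometry Limits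

namespace Groth.Agent.Lib.Helper73

open Groth.Agent.Lib.Helper72 Groth.Agent.Lib.Helper19

variable {S : Scheme.{u}} {G H : Over S} [GrpObj G] [GrpObj H] (f : G ⟶ H) [IsMonHom f]

/-- `f` is equivariant for left translation on `G` and translation through `f` on `H`. -/
lemma whiskerLeft_restrict_leftMul :
    (G ◁ f) ≫ ((TransT.leftMul H).restrict f).act = (TransT.leftMul G).act ≫ f := by
  rw [AlgGrp.Action.restrict_act, TransT.leftMul_act, TransT.leftMul_act, IsMonHom.mul_hom,
    tensorHom_def', Category.assoc]

/-- Homogeneity of the fibre dimension of a homomorphism of group schemes. -/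
theorem fibreDimAt_hom_eq_unit [LocallyOfFiniteType f.left] (x : G.left) :
    FlatMor.fibreDimAt f.left x =
      FlatMor.fibreDimAt f.left (η[G].left ((toUnit G).left x)) := by
  have sqA := (EquivImm.isPullback_whiskerLeft_act ((TransT.leftMul H).restrict f)
    (TransT.leftMul G) f (whiskerLeft_restrict_leftMul f)).map (Over.forget S)
  have sqS := (isPullback_whiskerLeft_snd G f).map (Over.forget S)
  simp only [Over.forget_obj, Over.forget_map] at sqA sqS
  set z := (lift (𝟙 G) (toUnit G ≫ η[G])).left x with hz
  have h1 := fibreDimAt_eq_of_isPullback f.left ((TransT.leftMul H).restrict f).act.left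
    (TransT.leftMul G).act.left (G ◁ f).left sqA.flip z
  have h2 := fibreDimAt_eq_of_isPullback f.left (snd G H).left (snd G G).left (G ◁ f).left
    sqS.flip z
  have e1 : (TransT.leftMul G).act.left z = x := by
    rw [hz, TransT.leftMul_act, ← Scheme.Hom.comp_apply, ← Over.comp_left,
      lift_comp_one_right]
    rfl
  have e2 : (snd G G).left z = η[G].left ((toUnit G).left x) := by
    rw [hz, ← Scheme.Hom.comp_apply, ← Over.comp_left, lift_snd, Over.comp_left,
      Scheme.Hom.comp_apply]
  rw [e1] at h1
  rw [e2] at h2
  rw [← h1, h2]

end Groth.Agent.Lib.Helper73
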